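import Cfsg.Agent.SchmidtUniversal.OfGroup

/-!
The largest datum (a Heisenberg group over the field) and the group built from it.
-/

set_option autoImplicit false

open scoped commutatorElement

namespace CfsgLib.SchmidtUniversal

universe u

/-- The twisted Heisenberg group of a field with an involution. -/
@[ext]
structure Heis {F : Type u} [Field F] (σ : F →+* F) : Type u where
  /-- first coordinate -/
  v : F
  /-- second coordinate -/
  z : F
  rel : z + σ z = v * σ v

namespace Heis

variable {F : Type u} [Field F] {σ : F →+* F}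

instance [hσ : Fact (∀ x, σ (σ x) = x)] : Group (Heis σ) where
  mul x y := ⟨x.v + y.v, x.z + y.z + σ x.v * y.v, by
    have := hσ.out x.v
    simp only [map_add, map_mul, this]
    linear_combination x.rel + y.rel⟩
  one := ⟨0, 0, by simp⟩
  inv x := ⟨-x.v, -x.z + σ x.v * x.v, by
    have := hσ.out x.v
    simp only [map_add, map_mul, map_neg, this]
    linear_combination -x.rel⟩
  mul_assoc x y w := Heis.ext (add_assoc x.v y.v w.v) (by
    show x.z + y.z + σ x.v * y.v + w.z + σ (x.v + y.v) * w.v =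
      x.z + (y.z + w.z + σ y.v * w.v) + σ x.v * (y.v + w.v)
    rw [map_add]; ring)
  one_mul x := Heis.ext (zero_add x.v) (by show 0 + x.z + σ 0 * x.v = x.z; rw [map_zero]; ring)
  mul_one x := Heis.ext (add_zero x.v) (by show x.z + 0 + σ x.v * 0 = x.z; ring)
  inv_mul_cancel x := Heis.ext (neg_add_cancel x.v)
    (by show -x.z + σ x.v * x.v + x.z + σ (-x.v) * x.v = 0; rw [map_neg]; ring)

variable [hσ : Fact (∀ x, σ (σ x) = x)]

theorem mul_v (x y : Heis σ) : (x * y).v = x.v + y.v := rfl
theorem mul_z (x y : Heis σ) : (x * y).z = x.z + y.z + σ x.v * y.v := rfl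
theorem one_v : (1 : Heis σ).v = 0 := rfl
theorem inv_v (x : Heis σ) : x⁻¹.v = -x.v := rfl
theorem inv_z (x : Heis σ) : x⁻¹.z = -x.z + σ x.v * x.v := rfl

instance [Finite F] : Finite (Heis σ) :=
  Finite.of_injective (fun x => (x.v, x.z)) fun _ _ h =>
    Heis.ext (congrArg Prod.fst h) (congrArg Prod.snd h)

theorem comm_z (x y : Heis σ) : (x * y * x⁻¹ * y⁻¹).z = σ x.v * y.v - σ y.v * x.v := by
  simp only [mul_v, mul_z, inv_v, inv_z, map_add, map_neg]
  ring

theorem comm_v (x y : Heis σ) : (x * y * x⁻¹ * y⁻¹).v = 0 := by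
  simp only [mul_v, inv_v]; ring

end Heis

/-- A datum of the largest order exists. -/
theorem exists_standard {F : Type u} [Field F] [Finite F] {p q a : ℕ} [hp : Fact p.Prime]
    [hq : Fact q.Prime] [CharP F p] {ζ : F} (h : RootData F p q a ζ) :
    ∃ (P : Type u) (_ : Group P) (_ : Finite P) (_ : Datum ζ p q P),
      Nat.card P = p ^ (a + halfExp a) := by
  have hζ0 : ζ ≠ 0 := h.prim.ne_zero hq.out.ne_zero
  by_cases hodd : a % 2 = 1
  · let τ : MulAut (Multiplicative F) :=
      { toFun := fun x => Multiplicative.ofAdd (ζ * x.toAdd)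
        invFun := fun x => Multiplicative.ofAdd (ζ⁻¹ * x.toAdd)
        left_inv := fun x => by simp [← mul_assoc, hζ0]
        right_inv := fun x => by simp [← mul_assoc, hζ0]
        map_mul' := fun x y => by simp [mul_add, ofAdd_add] }
    have hτ : ∀ (k : ℕ) (x : Multiplicative F), ((τ ^ k) x).toAdd = ζ ^ k * x.toAdd := by
      intro k x
      induction k with
      | zero => simp
      | succ k ih =>
        rw [pow_succ', MulAut.mul_apply, pow_succ', mul_assoc, ← ih]; rfl
    refine ⟨Multiplicative F, inferInstance, inferInstance,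
      { τ := τ
        pow_q := MulEquiv.ext fun x => Multiplicative.toAdd.injective (by
          rw [hτ, h.prim.pow_eq_one, one_mul, MulAut.one_apply])
        f := MonoidHom.id _
        surj := Function.surjective_id
        equiv := fun x => rfl
        fix := fun x hx => by rw [MonoidHom.id_apply] at hx; subst hx; exact map_one τ
        central := fun x hx => by rw [MonoidHom.id_apply] at hx; subst hx; exact one_mem _
        isP := IsPGroup.of_card (n := a) (by rw [Nat.card_congr Multiplicative.toAdd, h.card])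
        minimal := fun R _ hR => by rwa [Subgroup.map_id] at hR }, ?_⟩
    rw [Nat.card_congr Multiplicative.toAdd, h.card, halfExp, if_pos hodd, add_zero]
  set b := a / 2 with hb
  have hab : a = 2 * b := by omega
  have ha0 : 0 < a := by
    rw [h.order, orderOf_pos_iff, isOfFinOrder_iff_pow_eq_one]
    have hne : (p : ZMod q) ≠ 0 := by
      intro h0
      rw [ZMod.natCast_eq_zero_iff] at h0
      have hcard := h.card
      haveI := Fintype.ofFinite F
      have hqF : q ∣ Nat.card F - 1 := by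
        have ho : orderOf (h.prim.isUnit hq.out.ne_zero).unit = q := by
          rw [← orderOf_units, (h.prim.isUnit hq.out.ne_zero).unit_spec, ← h.prim.eq_orderOf]
        rw [← Nat.card_units, ← ho]; exact orderOf_dvd_natCard _
      rw [(Nat.prime_dvd_prime_iff_eq hq.out hp.out).1 h0, h.card] at hqF
      rcases Nat.eq_zero_or_pos a with h1 | h1
      · have : 1 < Nat.card F := Finite.one_lt_card
        rw [h.card, h1, pow_zero] at this; omega
      · have h2 : p ∣ p ^ a := dvd_pow_self p (by omega)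
        have h3 := Nat.dvd_sub h2 hqF
        rw [Nat.sub_sub_self (Nat.one_le_pow _ _ hp.out.pos)] at h3
        exact hp.out.one_lt.ne' (Nat.dvd_one.1 h3)
    exact ⟨q - 1, Nat.sub_pos_of_lt hq.out.one_lt, ZMod.pow_card_sub_one_eq_one hne⟩
  have hb0 : 0 < b := by omega
  -- the involution
  have hneg : ((p : ZMod q)) ^ b = -1 := by
    have h1 : ((p : ZMod q) ^ b) ^ 2 = 1 := by
      rw [← pow_mul, mul_comm, ← hab, h.order, pow_orderOf_eq_one]
    refine (sq_eq_one_iff.1 h1).resolve_left fun e => ?_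
    have := orderOf_le_of_pow_eq_one hb0 e
    rw [← h.order] at this
    omega
  let σ : F →+* F := iterateFrobenius F p b
  have hσdef : ∀ x, σ x = x ^ p ^ b := fun x => iterateFrobenius_def p b x
  have hσζ : σ ζ = ζ⁻¹ := by
    rw [hσdef]
    refine eq_inv_of_mul_eq_one_left ?_
    rw [← pow_succ, (orderOf_dvd_iff_pow_eq_one).1]
    rw [← h.prim.eq_orderOf, ← ZMod.natCast_eq_zero_iff, Nat.cast_add, Nat.cast_pow, hneg, Nat.cast_one,
      neg_add_cancel]
  haveI : Fact (∀ x, σ (σ x) = x) := ⟨fun x => by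
    haveI := Fintype.ofFinite F
    rw [hσdef, hσdef, ← pow_mul, ← pow_add, ← two_mul, ← hab, ← h.card, Nat.card_eq_fintype_card,
      FiniteField.pow_card]⟩
  have hσ2 : ∀ x, σ (σ x) = x := Fact.out
  by_cases hid : ∀ x, σ x = x
  · exfalso
    have hz : ζ⁻¹ = ζ := hσζ.symm.trans (hid ζ)
    have h2 : ζ ^ 2 = 1 := by
      rw [pow_two]; nth_rewrite 2 [← hz]; exact mul_inv_cancel₀ hζ0
    have hq2 : q = 2 := (Nat.prime_dvd_prime_iff_eq hq.out Nat.prime_two).1
      ((h.prim.pow_eq_one_iff_dvd 2).1 h2)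
    subst hq2
    have : a ≤ 1 := by
      rw [h.order]
      refine orderOf_le_of_pow_eq_one one_pos ?_
      have hne : (p : ZMod 2) ≠ 0 := fun e => by
        rw [e, zero_pow hb0.ne'] at hneg
        exact absurd hneg (neg_ne_zero.2 one_ne_zero).symm
      exact ZMod.pow_card_sub_one_eq_one hne
    omega
  push Not at hid
  obtain ⟨hcard, hker, hrange⟩ := card_eq_fixed_sq hσ2 hid
  have hKb : Nat.card {x : F | σ x = x} = p ^ b := by
    rw [h.card, hab, mul_comm 2 b, pow_mul] at hcard
    exact (Nat.pow_left_injective two_ne_zero hcard).symm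
  have hexz : ∀ v : F, ∃ z, z + σ z = v * σ v := by
    intro v
    have : v * σ v ∈ (Set.range fun x => x + σ x) := by
      rw [hrange]
      show σ (v * σ v) = v * σ v
      rw [map_mul, hσ2, mul_comm]
    obtain ⟨z, hz⟩ := this
    exact ⟨z, hz⟩
  choose zf hzf using hexz
  have hσinv : σ ζ * ζ = 1 := by rw [hσζ, inv_mul_cancel₀ hζ0]
  let τ : MulAut (Heis σ) :=
    { toFun := fun x => ⟨ζ * x.v, x.z, by
        rw [x.rel, map_mul]; linear_combination -(x.v * σ x.v) * hσinv⟩
      invFun := fun x => ⟨ζ⁻¹ * x.v, x.z, by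
        rw [x.rel, map_mul, map_inv₀, hσζ, inv_inv]
        linear_combination -(x.v * σ x.v) * (inv_mul_cancel₀ hζ0)⟩
      left_inv := fun x => Heis.ext (by simp [← mul_assoc, hζ0]) rfl
      right_inv := fun x => Heis.ext (by simp [← mul_assoc, hζ0]) rfl
      map_mul' := fun x y => Heis.ext (mul_add ζ x.v y.v) (by
        show x.z + y.z + σ x.v * y.v = x.z + y.z + σ (ζ * x.v) * (ζ * y.v)
        rw [map_mul]; linear_combination -(σ x.v * y.v) * hσinv) }
  have hτ : ∀ (k : ℕ) (x : Heis σ), ((τ ^ k) x).v = ζ ^ k * x.v ∧ ((τ ^ k) x).z = x.z := by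
    intro k x
    induction k with
    | zero => simp
    | succ k ih =>
      rw [pow_succ', MulAut.mul_apply]
      exact ⟨by show ζ * ((τ ^ k) x).v = _; rw [ih.1, pow_succ', mul_assoc], ih.2⟩
  let f : Heis σ →* Multiplicative F := MonoidHom.mk' (fun x => Multiplicative.ofAdd x.v) fun x y => rfl
  have hf : ∀ x : Heis σ, f x = 1 ↔ x.v = 0 := fun x => ofAdd_eq_one
  have hcardH : Nat.card (Heis σ) = p ^ (a + halfExp a) := by
    have e : Heis σ ≃ F × {x : F | x + σ x = 0} :=
      { toFun := fun x => (x.v, ⟨x.z - zf x.v, by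
          show x.z - zf x.v + σ (x.z - zf x.v) = 0
          rw [map_sub]; linear_combination x.rel - hzf x.v⟩)
        invFun := fun y => ⟨y.1, y.2.1 + zf y.1, by
          have h2 : y.2.1 + σ y.2.1 = 0 := y.2.2
          rw [map_add]; linear_combination h2 + hzf y.1⟩
        left_inv := fun x => Heis.ext rfl (sub_add_cancel _ _)
        right_inv := fun y => Prod.ext rfl (Subtype.ext (add_sub_cancel_right _ _)) }
    rw [Nat.card_congr e, Nat.card_prod, hker, hKb, h.card, ← pow_add, halfExp, if_neg hodd]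
  refine ⟨Heis σ, inferInstance, inferInstance,
    { τ := τ
      pow_q := MulEquiv.ext fun x => Heis.ext (by rw [(hτ q x).1, h.prim.pow_eq_one, one_mul]; rfl) (hτ q x).2
      f := f
      surj := fun y => ⟨⟨y.toAdd, zf y.toAdd, hzf _⟩, rfl⟩
      equiv := fun x => rfl
      fix := fun x hx => Heis.ext (by
        show ζ * x.v = x.v
        rw [(hf x).1 hx, mul_zero]) rfl
      central := fun x hx => Subgroup.mem_center_iff.2 fun y => Heis.ext (add_comm y.v x.v) (by
        rw [Heis.mul_z, Heis.mul_z, (hf x).1 hx, map_zero]; ring)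
      isP := IsPGroup.of_card hcardH
      minimal := ?_ }, hcardH⟩
  intro R _ hRmap
  have hlift : ∀ v : F, ∃ x ∈ R, x.v = v := fun v => by
    obtain ⟨x, hx, e⟩ := (hRmap ▸ Subgroup.mem_top _ : Multiplicative.ofAdd v ∈ R.map f)
    exact ⟨x, hx, Multiplicative.ofAdd.injective e⟩
  -- the commutators fill the kernel
  let Δ : F →+ F := AddMonoidHom.id F - σ.toAddMonoidHom
  have hΔ : ∀ x, Δ x = x - σ x := fun x => rfl
  have hΔsub : (Δ.range : Set F) ⊆ {x : F | x + σ x = 0} := by
    rintro _ ⟨x, rfl⟩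
    show Δ x + σ (Δ x) = 0
    rw [hΔ, map_sub, hσ2]; ring
  have hΔeq : (Δ.range : Set F) = {x : F | x + σ x = 0} := by
    refine Set.Finite.eq_of_subset_of_card_le (Set.toFinite _) hΔsub ?_
    have h3 := Δ.ker.card_mul_index
    rw [AddSubgroup.index_ker, h.card, hab, two_mul, pow_add] at h3
    have h4 : Nat.card Δ.ker = p ^ b := by
      rw [← hKb]
      exact Nat.card_congr (Equiv.subtypeEquivRight fun x => by
        show x - σ x = 0 ↔ σ x = x
        rw [sub_eq_zero, eq_comm])
    rw [h4] at h3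
    rw [hker, hKb]
    exact ge_of_eq (Nat.eq_of_mul_eq_mul_left (pow_pos hp.out.pos b) h3)
  refine eq_top_iff.2 fun x _ => ?_
  obtain ⟨w, hw, hwv⟩ := hlift x.v
  have h0 : (w⁻¹ * x).v = 0 := by rw [Heis.mul_v, Heis.inv_v, hwv, neg_add_cancel]
  have h1 : (w⁻¹ * x).z ∈ (Δ.range : Set F) := by
    rw [hΔeq]
    have := (w⁻¹ * x).rel
    rwa [h0, zero_mul] at this
  obtain ⟨c, hc⟩ := h1
  obtain ⟨r1, hr1, hr1v⟩ := hlift 1
  obtain ⟨r2, hr2, hr2v⟩ := hlift c
  have he : w⁻¹ * x = r1 * r2 * r1⁻¹ * r2⁻¹ := by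
    refine Heis.ext (by rw [h0, Heis.comm_v]) ?_
    rw [← hc, Heis.comm_z, hr1v, hr2v, hΔ, map_one, one_mul, mul_one]
  rw [show x = w * (w⁻¹ * x) by group, he]
  exact mul_mem hw (mul_mem (mul_mem (mul_mem hr1 hr2) (inv_mem hr1)) (inv_mem hr2))

/-- The root data exist. -/
theorem exists_rootData (p q a : ℕ) [hp : Fact p.Prime] [hq : Fact q.Prime] (hpq : p ≠ q)
    (ha : a = orderOf (p : ZMod q)) :
    ∃ (F : Type u) (_ : Field F) (_ : Finite F) (_ : CharP F p) (ζ : F), RootData F p q a ζ := by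
  have hne : (p : ZMod q) ≠ 0 := fun h0 =>
    hpq ((Nat.prime_dvd_prime_iff_eq hq.out hp.out).1 ((ZMod.natCast_eq_zero_iff _ _).1 h0)).symm
  have ha0 : a ≠ 0 := by
    rw [ha]
    exact orderOf_eq_zero_iff.not.2 (not_not.2 (isOfFinOrder_iff_pow_eq_one.2
      ⟨q - 1, Nat.sub_pos_of_lt hq.out.one_lt, ZMod.pow_card_sub_one_eq_one hne⟩))
  let F := ULift.{u} (GaloisField p a)
  have hcard : Nat.card F = p ^ a := by
    rw [Nat.card_congr Equiv.ulift]; exact GaloisField.card p a ha0
  haveI : Finite F := Nat.finite_of_card_ne_zero (by rw [hcard]; exact pow_ne_zero _ hp.out.ne_zero)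
  haveI : Fintype F := Fintype.ofFinite F
  haveI : CharP F p := by
    haveI : CharP (GaloisField p a) p := inferInstance
    exact charP_of_injective_ringHom (f := (ULift.ringEquiv (R := GaloisField p a)).symm.toRingHom)
      (ULift.ringEquiv (R := GaloisField p a)).symm.injective p
  have hdvd : q ∣ Nat.card Fˣ := by
    rw [Nat.card_units, hcard]
    refine (Nat.modEq_iff_dvd' (Nat.one_le_pow _ _ hp.out.pos)).1 ?_
    rw [← ZMod.natCast_eq_natCast_iff, Nat.cast_one, Nat.cast_pow, ha, pow_orderOf_eq_one]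
  obtain ⟨ζ, hζ⟩ := exists_prime_orderOf_dvd_card' q hdvd
  refine ⟨F, inferInstance, inferInstance, inferInstance, (ζ : F), hcard, ?_, ha⟩
  rw [← hζ, ← orderOf_units]
  exact IsPrimitiveRoot.orderOf _

end CfsgLib.SchmidtUniversal
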