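import Cfsg.Agent.SchmidtUniversal.Field

/-!
`p`-groups `P` with an automorphism `τ` of order dividing `q` inducing multiplication by `ζ` on a
quotient isomorphic to the field and generated by any invariant lift: the bound on their order and the
fibre product of two of them.
-/

set_option autoImplicit false

open scoped commutatorElement

namespace CfsgLib.SchmidtUniversal

variable {F : Type*} [Field F] [Finite F] {p q a : ℕ} [hp : Fact p.Prime] [hq : Fact q.Prime]
  [CharP F p] {ζ : F}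

/-- A group `P` over the `ζ`-module `F`. -/
structure Datum {F : Type*} [Field F] (ζ : F) (p q : ℕ) (P : Type*) [Group P] where
  /-- The automorphism. -/
  τ : MulAut P
  pow_q : τ ^ q = 1
  /-- The map onto the module. -/
  f : P →* Multiplicative F
  surj : Function.Surjective f
  equiv : ∀ u, (f (τ u)).toAdd = ζ * (f u).toAdd
  fix : ∀ u, f u = 1 → τ u = u
  central : ∀ u, f u = 1 → u ∈ Subgroup.center P
  isP : IsPGroup p P
  minimal : ∀ R : Subgroup P, (∀ u ∈ R, τ u ∈ R) → R.map f = ⊤ → R = ⊤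

namespace Datum

variable {P : Type*} [Group P] (D : Datum ζ p q P)

include D

omit [Finite F] hp hq [CharP F p] in
theorem equiv_pow (k : ℕ) (u : P) : (D.f ((D.τ ^ k) u)).toAdd = ζ ^ k * (D.f u).toAdd := by
  induction k with
  | zero => simp
  | succ k ih => rw [pow_succ', MulAut.mul_apply, D.equiv, ih, pow_succ', mul_assoc]

omit [CharP F p] in
theorem map_eq_top_or_le_ker (h : RootData F p q a ζ) (R : Subgroup P) (hR : ∀ u ∈ R, D.τ u ∈ R) :
    R.map D.f = ⊤ ∨ R ≤ D.f.ker := by
  let M : AddSubgroup F := Subgroup.toAddSubgroup' (R.map D.f)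
  rcases addSubgroup_eq h M (by
      intro m hm
      obtain ⟨u, hu, hum⟩ := (show Multiplicative.ofAdd m ∈ R.map D.f from hm)
      exact ⟨D.τ u, hR u hu, Multiplicative.toAdd.injective
        (by rw [D.equiv, hum]; rfl)⟩) with h0 | h0
  · right
    intro u hu
    have h1 : (D.f u).toAdd ∈ M := ⟨u, hu, rfl⟩
    rw [h0, AddSubgroup.mem_bot] at h1
    exact Multiplicative.toAdd.injective h1
  · left
    refine eq_top_iff.2 fun x _ => ?_
    have h1 : x.toAdd ∈ M := h0 ▸ AddSubgroup.mem_top _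
    exact h1

omit [CharP F p] in
theorem eq_top_or_le_ker (h : RootData F p q a ζ) (R : Subgroup P) (hR : ∀ u ∈ R, D.τ u ∈ R) :
    R = ⊤ ∨ R ≤ D.f.ker :=
  (D.map_eq_top_or_le_ker h R hR).imp_left (D.minimal R hR)

omit [Finite F] hp hq [CharP F p] in
theorem commutator_le_ker : commutator P ≤ D.f.ker :=
  Abelianization.commutator_subset_ker D.f

omit [Finite F] hp hq [CharP F p] in
theorem comm_mem (u v : P) : ⁅u, v⁆ ∈ Subgroup.center P :=
  D.central _ (D.commutator_le_ker (Subgroup.commutator_mem_commutator trivial trivial))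

omit [Finite F] hp hq [CharP F p] in
theorem comm_mul_right (u v w : P) : ⁅u, v * w⁆ = ⁅u, v⁆ * ⁅u, w⁆ := by
  have h1 : ⁅u, v * w⁆ = ⁅u, v⁆ * (v * ⁅u, w⁆ * v⁻¹) := by
    simp only [commutatorElement_def]; group
  rw [h1, Subgroup.mem_center_iff.1 (D.comm_mem u w) v, mul_inv_cancel_right]

omit [Finite F] hp hq [CharP F p] in
theorem comm_mul_left (u v w : P) : ⁅u * v, w⁆ = ⁅u, w⁆ * ⁅v, w⁆ := by
  rw [← inv_inj, commutatorElement_inv, mul_inv_rev, commutatorElement_inv, commutatorElement_inv,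
    D.comm_mul_right]
  exact (Subgroup.mem_center_iff.1 (D.comm_mem w v) _).symm ▸ rfl

omit [CharP F p] in
/-- The kernel is the commutator subgroup. -/
theorem ker_eq_commutator (h : RootData F p q a ζ) [Finite P] : D.f.ker = commutator P := by
  refine le_antisymm ?_ D.commutator_le_ker
  let δ : P →* Abelianization P :=
    MonoidHom.mk' (fun u => (Abelianization.of u)⁻¹ * Abelianization.of (D.τ u)) (by
      intro u v
      simp only [map_mul, mul_inv]
      exact mul_mul_mul_comm _ _ _ _)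
  have hcomm : ∀ u v, Abelianization.of (D.τ u) = Abelianization.of (D.τ v) ↔
      Abelianization.of u = Abelianization.of v := by
    have key : ∀ (σ : MulAut P) u v, Abelianization.of u = Abelianization.of v →
        Abelianization.of (σ u) = Abelianization.of (σ v) := by
      intro σ u v huv
      exact congrArg (Abelianization.map σ.toMonoidHom) huv
    exact fun u v => ⟨fun e => by simpa using key D.τ⁻¹ _ _ e, key D.τ u v⟩
  let R : Subgroup P := δ.range.comap Abelianization.of
  have hR : ∀ u ∈ R, D.τ u ∈ R := by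
    rintro u ⟨w, hw⟩
    refine ⟨D.τ w, ?_⟩
    have : Abelianization.of (D.τ u) = Abelianization.of (D.τ (w⁻¹ * D.τ w)) :=
      (hcomm _ _).2 (by rw [map_mul, map_inv]; exact hw.symm)
    rw [this]
    simp [δ]
  have hmap : R.map D.f = ⊤ := by
    refine (D.map_eq_top_or_le_ker h R hR).resolve_right fun hle => ?_
    obtain ⟨u, hu⟩ := D.surj (Multiplicative.ofAdd 1)
    have hmem : u⁻¹ * D.τ u ∈ R := ⟨u, by simp [δ]⟩
    have h1 : (D.f (u⁻¹ * D.τ u)).toAdd = 0 := by rw [show D.f (u⁻¹ * D.τ u) = 1 from hle hmem]; rfl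
    simp only [map_mul, map_inv, toAdd_mul, toAdd_inv, D.equiv, hu, toAdd_ofAdd, mul_one] at h1
    exact h.prim.ne_one hq.out.one_lt (neg_add_eq_zero.1 h1).symm
  have hRtop := D.minimal R hR hmap
  let δ' : Abelianization P →* Abelianization P := Abelianization.lift δ
  have hsurj : Function.Surjective δ' := by
    intro x
    obtain ⟨u, rfl⟩ := (QuotientGroup.mk'_surjective (commutator P)) x
    obtain ⟨w, hw⟩ := (show u ∈ R from hRtop ▸ Subgroup.mem_top u)
    exact ⟨Abelianization.of w, hw⟩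
  haveI : Finite (Abelianization P) := Finite.of_surjective _ (QuotientGroup.mk'_surjective (commutator P))
  have hinj := Finite.injective_iff_surjective.2 hsurj
  intro u hu
  rw [← Abelianization.ker_of, MonoidHom.mem_ker]
  refine hinj ?_
  rw [map_one]
  show (Abelianization.of u)⁻¹ * Abelianization.of (D.τ u) = 1
  rw [D.fix u hu, inv_mul_cancel]

theorem comm_pow_p (u v : P) : ⁅u, v⁆ ^ p = 1 := by
  have h1 : ∀ n : ℕ, ⁅u ^ n, v⁆ = ⁅u, v⁆ ^ n := by
    intro n
    induction n with
    | zero => simp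
    | succ n ih => rw [pow_succ, D.comm_mul_left, ih, pow_succ]
  rw [← h1]
  have h2 : D.f (u ^ p) = 1 := by
    apply Multiplicative.toAdd.injective
    rw [map_pow, toAdd_pow, toAdd_one, nsmul_eq_mul, CharP.cast_eq_zero, zero_mul]
  rw [commutatorElement_eq_one_iff_mul_comm]
  exact (Subgroup.mem_center_iff.1 (D.central _ h2) v).symm

theorem ker_pow_p (h : RootData F p q a ζ) [Finite P] {u : P} (hu : u ∈ D.f.ker) : u ^ p = 1 := by
  rw [D.ker_eq_commutator h, commutator_eq_closure] at hu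
  induction hu using Subgroup.closure_induction with
  | mem x hx => obtain ⟨g, k, rfl⟩ := hx; exact D.comm_pow_p g k
  | one => simp
  | mul x y hx _ ihx ihy =>
    have hc : x ∈ Subgroup.center P := D.central x (by
      have : x ∈ D.f.ker := by rw [D.ker_eq_commutator h, commutator_eq_closure]; exact hx
      exact this)
    rw [(show Commute x y from (Subgroup.mem_center_iff.1 hc y).symm).mul_pow, ihx, ihy, mul_one]
  | inv x _ ih => rw [inv_pow, ih, inv_one]

theorem card_ker_le (h : RootData F p q a ζ) [Finite P] :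
    Nat.card D.f.ker ≤ p ^ halfExp a := by
  have hζ0 : ζ ≠ 0 := h.prim.ne_zero hq.out.ne_zero
  let N := D.f.ker
  have hNc : ∀ x y : N, x * y = y * x := fun x y =>
    Subtype.ext (Subgroup.mem_center_iff.1 (D.central _ y.2) x)
  letI : CommGroup N := { (inferInstance : Group N) with mul_comm := hNc }
  have hcN : ∀ u v : P, ⁅u, v⁆ ∈ N := fun u v =>
    D.commutator_le_ker (Subgroup.commutator_mem_commutator trivial trivial)
  let c : P → P → N := fun u v => ⟨⁅u, v⁆, hcN u v⟩
  let s := Function.surjInv D.surj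
  have hs : ∀ y, D.f (s y) = y := Function.surjInv_eq D.surj
  have hcz : ∀ u v v', D.f v = D.f v' → c u v = c u v' := by
    intro u v v' e
    refine Subtype.ext ?_
    show ⁅u, v⁆ = ⁅u, v'⁆
    have hz : v'⁻¹ * v ∈ Subgroup.center P := D.central _ (by rw [map_mul, map_inv, e, inv_mul_cancel])
    rw [show v = v' * (v'⁻¹ * v) by group, D.comm_mul_right,
      commutatorElement_eq_one_iff_mul_comm.2 (Subgroup.mem_center_iff.1 hz u), mul_one]
  let ψ : P → (F →+ Additive N) := fun u =>
    AddMonoidHom.mk' (fun y => Additive.ofMul (c u (s (Multiplicative.ofAdd y)))) (by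
      intro y z
      rw [← ofMul_mul]
      refine congrArg Additive.ofMul ?_
      rw [hcz u _ (s (Multiplicative.ofAdd y) * s (Multiplicative.ofAdd z))
        (by rw [map_mul, hs, hs, hs, ofAdd_add])]
      exact Subtype.ext (D.comm_mul_right _ _ _))
  have hψv : ∀ u v, ψ u (D.f v).toAdd = Additive.ofMul (c u v) := fun u v => by
    show Additive.ofMul _ = _
    rw [ofAdd_toAdd, hcz u _ v (hs _)]
  set u₁ := s (Multiplicative.ofAdd (1 : F)) with hu₁
  have hu₁f : (D.f u₁).toAdd = 1 := by rw [hu₁, hs]; rfl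
  have hτu : ∀ k : ℕ, (D.f ((D.τ ^ k) u₁)).toAdd = ζ ^ k := fun k => by
    rw [D.equiv_pow, hu₁f, mul_one]
  have hτc : ∀ (k : ℕ) u v, c ((D.τ ^ k) u) ((D.τ ^ k) v) = c u v := by
    intro k u v
    refine Subtype.ext ?_
    show ⁅(D.τ ^ k) u, (D.τ ^ k) v⁆ = ⁅u, v⁆
    rw [← map_commutatorElement]
    have hfx : ∀ x, x ∈ D.f.ker → (D.τ ^ k) x = x := by
      intro x hx
      induction k with
      | zero => simp
      | succ k ih => rw [pow_succ', MulAut.mul_apply, ih, D.fix x hx]
    exact hfx _ (hcN u v)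
  let A := Additive N
  have hA : ∀ x : A, p • x = 0 := fun x => Subtype.ext (D.ker_pow_p h (Additive.toMul x).2)
  have e0 : Nat.card N = Nat.card (A →+ ZMod p) := (card_dual (A := A) hA).symm
  rw [e0]
  refine le_trans ?_ (card_formSet h)
  refine Nat.card_le_card_of_injective (fun χ : A →+ ZMod p => (⟨χ.comp (ψ u₁), ?_, ?_⟩ : formSet p ζ)) ?_
  · show χ (ψ u₁ 1) = 0
    rw [← hu₁f, hψv, show c u₁ u₁ = 1 from Subtype.ext (commutatorElement_self u₁), ofMul_one, map_zero]
  · intro k
    show χ (ψ u₁ (ζ ^ k)) = - χ (ψ u₁ (ζ⁻¹ ^ k))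
    have e : ζ⁻¹ ^ k = ζ ^ ((q - 1) * k) := by
      rw [pow_mul]
      congr 1
      refine inv_eq_of_mul_eq_one_right ?_
      rw [← pow_succ', Nat.sub_add_cancel hq.out.one_le, h.prim.pow_eq_one]
    rw [e, ← hτu k, ← hτu ((q - 1) * k), hψv, hψv]
    have e2 : c u₁ ((D.τ ^ k) u₁) = (c u₁ ((D.τ ^ ((q - 1) * k)) u₁))⁻¹ := by
      have h1 := hτc ((q - 1) * k) u₁ ((D.τ ^ k) u₁)
      have h0 : (D.τ ^ ((q - 1) * k) * D.τ ^ k : MulAut P) = 1 := by
        rw [← pow_add, ← Nat.succ_mul, Nat.succ_eq_add_one, Nat.sub_add_cancel hq.out.one_le, pow_mul,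
          D.pow_q, one_pow]
      rw [← MulAut.mul_apply, h0, MulAut.one_apply] at h1
      rw [← h1]
      exact Subtype.ext (commutatorElement_inv _ _).symm
    rw [e2, ofMul_inv, map_neg]
  · intro χ χ' hχ
    have h1 : χ.comp (ψ u₁) = χ'.comp (ψ u₁) := congrArg Subtype.val hχ
    have h2 : ∀ (i : ℕ) v, χ (Additive.ofMul (c ((D.τ ^ i) u₁) v)) = χ' (Additive.ofMul (c ((D.τ ^ i) u₁) v)) := by
      intro i v
      obtain ⟨w, rfl⟩ := (D.τ ^ i).surjective v
      rw [hτc, ← hψv]
      exact DFunLike.congr_fun h1 _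
    have h3 : ∀ u v, χ (Additive.ofMul (c u v)) = χ' (Additive.ofMul (c u v)) := by
      intro u v
      have h4 : χ.comp (ψ v) = χ'.comp (ψ v) := hom_ext_powers h fun i => by
        show χ (ψ v (ζ ^ i)) = χ' (ψ v (ζ ^ i))
        rw [← hτu i, hψv, show c v ((D.τ ^ i) u₁) = (c ((D.τ ^ i) u₁) v)⁻¹ from
          Subtype.ext (commutatorElement_inv _ _).symm, ofMul_inv, map_neg, map_neg, h2]
      have h5 : χ (ψ v (D.f u).toAdd) = χ' (ψ v (D.f u).toAdd) := DFunLike.congr_fun h4 _
      rw [hψv] at h5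
      rw [show c u v = (c v u)⁻¹ from Subtype.ext (commutatorElement_inv _ _).symm, ofMul_inv, map_neg,
        map_neg, h5]
    ext x
    have hx : ((Additive.toMul x : N) : P) ∈ commutator P := by
      rw [← D.ker_eq_commutator h]; exact (Additive.toMul x).2
    rw [commutator_eq_closure] at hx
    suffices ∀ y : P, y ∈ Subgroup.closure (commutatorSet P) → ∃ hy : y ∈ N,
        χ (Additive.ofMul ⟨y, hy⟩) = χ' (Additive.ofMul ⟨y, hy⟩) by
      obtain ⟨_, h6⟩ := this _ hx
      exact h6
    intro y hy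
    induction hy using Subgroup.closure_induction with
    | mem z hz => obtain ⟨g, k, rfl⟩ := hz; exact ⟨hcN g k, h3 g k⟩
    | one => exact ⟨one_mem _, (map_zero χ).trans (map_zero χ').symm⟩
    | mul z w _ _ hz hw =>
      obtain ⟨hz, ez⟩ := hz
      obtain ⟨hw, ew⟩ := hw
      refine ⟨mul_mem hz hw, ?_⟩
      rw [show (⟨z * w, mul_mem hz hw⟩ : N) = ⟨z, hz⟩ * ⟨w, hw⟩ from rfl, ofMul_mul, map_add, map_add,
        ez, ew]
    | inv z _ hz =>
      obtain ⟨hz, ez⟩ := hz
      refine ⟨inv_mem hz, ?_⟩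
      rw [show (⟨z⁻¹, inv_mem hz⟩ : N) = (⟨z, hz⟩ : N)⁻¹ from rfl, ofMul_inv, map_neg, map_neg, ez]

theorem card_le (h : RootData F p q a ζ) [Finite P] : Nat.card P ≤ p ^ (a + halfExp a) := by
  rw [← D.f.ker.card_mul_index, Subgroup.index_ker, MonoidHom.range_eq_top.2 D.surj, Subgroup.card_top,
    Nat.card_congr Multiplicative.toAdd, h.card, pow_add, mul_comm]
  exact Nat.mul_le_mul_left _ (D.card_ker_le h)

end Datum

omit [CharP F p] in
/-- A datum of the largest order maps onto every other one. -/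
theorem exists_surjective_hom (h : RootData F p q a ζ) [CharP F p] {P₀ P : Type*} [Group P₀] [Finite P₀]
    [Group P] [Finite P] (D₀ : Datum ζ p q P₀) (D : Datum ζ p q P)
    (hcard : Nat.card P₀ = p ^ (a + halfExp a)) :
    ∃ ψ : P₀ →* P, Function.Surjective ψ ∧ (∀ u, D.τ (ψ u) = ψ (D₀.τ u)) ∧
      ∀ u, D.f (ψ u) = D₀.f u := by
  let E : Subgroup (P₀ × P) := (D₀.f.comp (MonoidHom.fst P₀ P)).eqLocus (D.f.comp (MonoidHom.snd P₀ P))
  let T : P₀ × P → P₀ × P := fun x => (D₀.τ x.1, D.τ x.2)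
  have hTE : ∀ x ∈ E, T x ∈ E := by
    intro x hx
    apply Multiplicative.toAdd.injective
    show (D₀.f (D₀.τ x.1)).toAdd = (D.f (D.τ x.2)).toAdd
    rw [D₀.equiv, D.equiv, show D₀.f x.1 = D.f x.2 from hx]
  let good : Set (Subgroup (P₀ × P)) :=
    {R | R ≤ E ∧ (∀ x ∈ R, T x ∈ R) ∧ R.map (D₀.f.comp (MonoidHom.fst P₀ P)) = ⊤}
  have hgood : E ∈ good := by
    refine ⟨le_rfl, hTE, eq_top_iff.2 fun y _ => ?_⟩
    obtain ⟨u, hu⟩ := D₀.surj y
    obtain ⟨v, hv⟩ := D.surj y
    exact ⟨(u, v), show D₀.f u = D.f v from hu.trans hv.symm, hu⟩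
  obtain ⟨R, ⟨hRE, hRT, hRmap⟩, hmin⟩ := Set.Finite.exists_minimal (Set.toFinite good) ⟨E, hgood⟩
  let π₀ : R →* P₀ := (MonoidHom.fst P₀ P).comp R.subtype
  let π : R →* P := (MonoidHom.snd P₀ P).comp R.subtype
  have hcomp : ∀ x : R, D.f (π x) = D₀.f (π₀ x) := fun x => (hRE x.2).symm
  let τR : R →* R :=
    MonoidHom.mk' (fun x => ⟨T x, hRT x x.2⟩) fun x y => by
      refine Subtype.ext (Prod.ext ?_ ?_) <;> simp [T]
  have hτR : Function.Bijective τR := by
    refine Finite.injective_iff_bijective.1 fun x y hxy => ?_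
    have h1 : T x.1 = T y.1 := congrArg Subtype.val hxy
    exact Subtype.ext (Prod.ext (D₀.τ.injective (congrArg Prod.fst h1)) (D.τ.injective (congrArg Prod.snd h1)))
  have hτq : ∀ (k : ℕ) (x : R), ((MulEquiv.ofBijective τR hτR) ^ k : MulAut R) x =
      (⟨((D₀.τ ^ k) x.1.1, (D.τ ^ k) x.1.2), by
        induction k with
        | zero => exact x.2
        | succ k ih => rw [pow_succ', pow_succ', MulAut.mul_apply, MulAut.mul_apply]; exact hRT _ ih⟩ : R) := by
    intro k x
    induction k with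
    | zero => rfl
    | succ k ih =>
      rw [pow_succ', MulAut.mul_apply, ih]
      refine Subtype.ext ?_
      simp only [pow_succ', MulAut.mul_apply]
      rfl
  let DR : Datum ζ p q R :=
    { τ := MulEquiv.ofBijective τR hτR
      pow_q := MulEquiv.ext fun x => by
        rw [hτq]
        refine Subtype.ext ?_
        simp only [D₀.pow_q, D.pow_q, MulAut.one_apply]
      f := D₀.f.comp π₀
      surj := by
        intro y
        obtain ⟨x, hx, hxy⟩ := (hRmap ▸ Subgroup.mem_top y : y ∈ R.map _)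
        exact ⟨⟨x, hx⟩, hxy⟩
      equiv := fun x => D₀.equiv _
      fix := fun x hx => Subtype.ext (Prod.ext (D₀.fix _ hx) (D.fix _ ((hcomp x).trans hx)))
      central := fun x hx => Subgroup.mem_center_iff.2 fun y => Subtype.ext (Prod.ext
        (Subgroup.mem_center_iff.1 (D₀.central _ hx) _)
        (Subgroup.mem_center_iff.1 (D.central _ ((hcomp x).trans hx)) _))
      isP := by
        intro x
        obtain ⟨i, hi⟩ := D₀.isP x.1.1
        obtain ⟨j, hj⟩ := D.isP x.1.2
        refine ⟨i + j, Subtype.ext (Prod.ext ?_ ?_)⟩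
        · show x.1.1 ^ p ^ (i + j) = 1
          rw [pow_add, pow_mul, hi, one_pow]
        · show x.1.2 ^ p ^ (i + j) = 1
          rw [pow_add, mul_comm, pow_mul, hj, one_pow]
      minimal := by
        intro S hS hSmap
        have hS' : S.map R.subtype ∈ good := by
          refine ⟨(Subgroup.map_subtype_le S).trans hRE, ?_, ?_⟩
          · rintro _ ⟨x, hx, rfl⟩
            exact ⟨_, hS x hx, rfl⟩
          · rw [Subgroup.map_map]; exact hSmap
        have h1 : R ≤ S.map R.subtype := hmin hS' (Subgroup.map_subtype_le S)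
        refine eq_top_iff.2 fun x _ => ?_
        obtain ⟨y, hy, hyx⟩ := h1 x.2
        rwa [← Subtype.ext hyx] }
  have hs₀ : Function.Surjective π₀ := by
    rw [← MonoidHom.range_eq_top]
    refine D₀.minimal _ ?_ ?_
    · rintro _ ⟨x, rfl⟩; exact ⟨τR x, rfl⟩
    · refine eq_top_iff.2 fun y _ => ?_
      obtain ⟨x, rfl⟩ := DR.surj y
      exact ⟨_, ⟨x, rfl⟩, rfl⟩
  have hs : Function.Surjective π := by
    rw [← MonoidHom.range_eq_top]
    refine D.minimal _ ?_ ?_
    · rintro _ ⟨x, rfl⟩; exact ⟨τR x, rfl⟩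
    · refine eq_top_iff.2 fun y _ => ?_
      obtain ⟨x, rfl⟩ := DR.surj y
      exact ⟨_, ⟨x, rfl⟩, hcomp x⟩
  have hb : Function.Bijective π₀ := (Nat.bijective_iff_surjective_and_card _).2 ⟨hs₀,
    le_antisymm ((DR.card_le h).trans_eq hcard.symm) (Nat.card_le_card_of_surjective _ hs₀)⟩
  let e := MulEquiv.ofBijective π₀ hb
  refine ⟨π.comp e.symm.toMonoidHom, hs.comp e.symm.surjective, ?_, ?_⟩
  · intro u
    have h1 : τR (e.symm u) = e.symm (D₀.τ u) := by
      apply e.injective
      rw [e.apply_symm_apply]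
      show D₀.τ (e (e.symm u)) = _
      rw [e.apply_symm_apply]
    exact congrArg π h1
  · intro u
    show D.f (π (e.symm u)) = _
    rw [hcomp]
    exact congrArg D₀.f (e.apply_symm_apply u)

end CfsgLib.SchmidtUniversal
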