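import Mathlib

/-!
A finite field generated by a root of unity of prime order, and the space of additive functionals that
come from alternating forms invariant under multiplication by that root.
-/

set_option autoImplicit false

namespace CfsgLib.SchmidtUniversal

variable {F : Type*} [Field F] [Finite F] {p q a : ℕ} [hp : Fact p.Prime] [hq : Fact q.Prime]
  [CharP F p] {ζ : F}

/-- The field is generated by `ζ`, in the form used here. -/
structure RootData (F : Type*) [Field F] (p q a : ℕ) (ζ : F) : Prop where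
  card : Nat.card F = p ^ a
  prim : IsPrimitiveRoot ζ q
  order : a = orderOf (p : ZMod q)

omit [CharP F p] in
theorem addSubgroup_eq (h : RootData F p q a ζ) (M : AddSubgroup F) (hM : ∀ m ∈ M, ζ * m ∈ M) :
    M = ⊥ ∨ M = ⊤ := by
  rcases eq_or_ne M ⊥ with h0 | h0
  · exact Or.inl h0
  refine Or.inr ?_
  haveI := Fintype.ofFinite F
  let K : Subfield F :=
    { carrier := {c | ∀ m ∈ M, c * m ∈ M}
      mul_mem' := fun {x y} hx hy m hm => by rw [mul_assoc]; exact hx _ (hy _ hm)
      one_mem' := fun m hm => by rwa [one_mul]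
      add_mem' := fun {x y} hx hy m hm => by rw [add_mul]; exact add_mem (hx _ hm) (hy _ hm)
      zero_mem' := fun m _ => by rw [zero_mul]; exact zero_mem _
      neg_mem' := fun {x} hx m hm => by rw [neg_mul]; exact neg_mem (hx _ hm)
      inv_mem' := fun x hx => by
        rcases eq_or_ne x 0 with rfl | hne
        · simpa using fun m _ => zero_mem M
        have hc : 2 ≤ Fintype.card F := Fintype.one_lt_card
        have e : x⁻¹ = x ^ (Fintype.card F - 2) := by
          refine inv_eq_of_mul_eq_one_right ?_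
          rw [← pow_succ', show Fintype.card F - 2 + 1 = Fintype.card F - 1 by omega]
          exact FiniteField.pow_card_sub_one_eq_one x hne
        rw [e]
        intro m hm
        induction (Fintype.card F - 2) with
        | zero => simpa using hm
        | succ n ih => rw [pow_succ', mul_assoc]; exact hx _ ih }
  have hζK : ζ ∈ K := hM
  haveI : NeZero q := ⟨hq.out.ne_zero⟩
  have hζ0 : ζ ≠ 0 := h.prim.ne_zero hq.out.ne_zero
  obtain ⟨d, hd, hcK⟩ : ∃ d ≤ a, Nat.card K = p ^ d := by
    have := AddSubgroup.card_addSubgroup_dvd_card K.toAddSubgroup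
    rw [h.card] at this
    exact (Nat.dvd_prime_pow hp.out).1 this
  have hqd : ((p : ZMod q)) ^ d = 1 := by
    have hprim : IsPrimitiveRoot (⟨ζ, hζK⟩ : K) q :=
      IsPrimitiveRoot.of_map_of_injective (f := K.subtype) h.prim K.subtype.injective
    have hu := (hprim.isUnit hq.out.ne_zero).unit_spec
    have ho : orderOf (hprim.isUnit hq.out.ne_zero).unit = q := by
      rw [← orderOf_units, hu, ← hprim.eq_orderOf]
    haveI := Fintype.ofFinite K
    have h2 : q ∣ Nat.card K - 1 := by
      have e : Nat.card Kˣ = Nat.card K - 1 := Nat.card_units K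
      rw [← e, ← ho]
      exact orderOf_dvd_natCard _
    have h1 : 1 ≤ p ^ d := Nat.one_le_pow _ _ hp.out.pos
    rw [hcK] at h2
    have h4 : ((p ^ d : ℕ) : ZMod q) = ((1 : ℕ) : ZMod q) := by
      rw [ZMod.natCast_eq_natCast_iff]
      exact ((Nat.modEq_iff_dvd' h1).2 h2).symm
    simpa using h4
  have hd0 : d ≠ 0 := by
    intro h0'
    rw [h0', pow_zero] at hcK
    haveI := (Nat.card_eq_one_iff_unique.1 hcK).1
    exact zero_ne_one (α := K) (Subsingleton.elim _ _)
  have had : a ≤ d := by
    rw [h.order]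
    exact orderOf_le_of_pow_eq_one (Nat.pos_of_ne_zero hd0) hqd
  have hKtop : K.toAddSubgroup = ⊤ :=
    AddSubgroup.eq_top_of_card_eq _ (hcK.trans (by rw [h.card, le_antisymm hd had]))
  obtain ⟨m, hm, hm0⟩ := M.bot_or_exists_ne_zero.resolve_left h0
  refine eq_top_iff.2 fun y _ => ?_
  have hy : y * m⁻¹ ∈ K := by
    have : y * m⁻¹ ∈ K.toAddSubgroup := hKtop ▸ AddSubgroup.mem_top _
    exact this
  simpa [mul_assoc, hm0] using hy m hm

omit [CharP F p] in
theorem closure_powers (h : RootData F p q a ζ) :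
    AddSubgroup.closure (Set.range fun k : ℕ => ζ ^ k) = ⊤ := by
  refine (addSubgroup_eq h _ fun m hm => ?_).resolve_left fun h0 => ?_
  · induction hm using AddSubgroup.closure_induction with
    | mem x hx =>
      obtain ⟨k, rfl⟩ := hx
      exact AddSubgroup.subset_closure ⟨k + 1, pow_succ' ζ k⟩
    | zero => simp
    | add x y _ _ hx hy => rw [mul_add]; exact add_mem hx hy
    | neg x _ hx => rw [mul_neg]; exact neg_mem hx
  · have : (1 : F) ∈ AddSubgroup.closure (Set.range fun k : ℕ => ζ ^ k) :=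
      AddSubgroup.subset_closure ⟨0, pow_zero ζ⟩
    rw [h0] at this
    exact one_ne_zero (AddSubgroup.mem_bot.1 this)

omit [CharP F p] in
theorem hom_ext_powers (h : RootData F p q a ζ) {A : Type*} [AddGroup A] {f g : F →+ A}
    (hfg : ∀ k : ℕ, f (ζ ^ k) = g (ζ ^ k)) : f = g :=
  AddMonoidHom.eq_of_eqOn_dense (closure_powers h) (by rintro _ ⟨k, rfl⟩; exact hfg k)

/-- A ring homomorphism on a field can be prescribed on `ζ` as soon as the relations of `ζ` persist. -/
theorem exists_ringHom (h : RootData F p q a ζ) {R : Type*} [Ring R] [Algebra (ZMod p) R] (s : R)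
    (hs : ∀ P : Polynomial (ZMod p), Polynomial.eval₂ (ZMod.castHom (dvd_refl p) F) ζ P = 0 →
      Polynomial.aeval s P = 0) :
    ∃ ρ : F →+* R, ρ ζ = s := by
  let φ : Polynomial (ZMod p) →+* F := Polynomial.eval₂RingHom (ZMod.castHom (dvd_refl p) F) ζ
  have hsurj : Function.Surjective φ := by
    intro y
    have hy : y ∈ AddSubgroup.closure (Set.range fun k : ℕ => ζ ^ k) := by
      rw [closure_powers h]; trivial
    induction hy using AddSubgroup.closure_induction with
    | mem x hx => obtain ⟨k, rfl⟩ := hx; exact ⟨Polynomial.X ^ k, by simp [φ]⟩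
    | zero => exact ⟨0, map_zero _⟩
    | add x y _ _ hx hy =>
      obtain ⟨P, rfl⟩ := hx; obtain ⟨Q, rfl⟩ := hy; exact ⟨P + Q, map_add _ _ _⟩
    | neg x _ hx => obtain ⟨P, rfl⟩ := hx; exact ⟨-P, map_neg _ _⟩
  let ψ : Polynomial (ZMod p) →+* R := (Polynomial.aeval s).toRingHom
  let g : {g : Polynomial (ZMod p) →+* R // RingHom.ker φ ≤ RingHom.ker g} := ⟨ψ, fun P hP => hs P hP⟩
  refine ⟨φ.liftOfSurjective hsurj g, ?_⟩
  have := φ.liftOfRightInverse_comp_apply _ (Function.rightInverse_surjInv hsurj) g Polynomial.X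
  simpa [φ, ψ, g, RingHom.liftOfSurjective] using this

section involution

variable {σ : F →+* F}

omit hp [CharP F p] hq in
theorem card_eq_fixed_sq (hσ2 : ∀ x, σ (σ x) = x) (hne : ∃ x, σ x ≠ x) :
    Nat.card F = Nat.card {x : F | σ x = x} ^ 2 ∧
      Nat.card {x : F | x + σ x = 0} = Nat.card {x : F | σ x = x} ∧
      (Set.range fun x => x + σ x) = {x : F | σ x = x} := by
  obtain ⟨x₁, hx₁⟩ := hne
  let T : F →+ F := AddMonoidHom.id F + σ.toAddMonoidHom
  have hT : ∀ x, T x = x + σ x := fun x => rfl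
  have hTfix : ∀ x, σ (T x) = T x := fun x => by rw [hT, map_add, hσ2, add_comm]
  have hTne : ∃ y, T y ≠ 0 := by
    by_contra hcon
    push Not at hcon
    have h1 := hcon 1
    rw [hT, map_one] at h1
    refine hx₁ ?_
    have h2 := hcon x₁
    rw [hT] at h2
    have : x₁ + x₁ = 0 := by rw [← two_mul, ← one_add_one_eq_two, h1, zero_mul]
    exact add_left_cancel (h2.trans this.symm)
  obtain ⟨y₁, hy₁⟩ := hTne
  have hrange : (Set.range fun x => x + σ x) = {x : F | σ x = x} := by
    refine Set.Subset.antisymm (by rintro _ ⟨x, rfl⟩; exact hTfix x) fun c hc => ?_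
    refine ⟨c / T y₁ * y₁, ?_⟩
    have : σ (c / T y₁) = c / T y₁ := by rw [map_div₀, hc, hTfix]
    simp only [map_mul, this]
    rw [← mul_add, ← hT, div_mul_cancel₀ _ hy₁]
  let w := x₁ - σ x₁
  have hw : σ w = -w := by simp [w, hσ2]
  have hw0 : w ≠ 0 := sub_ne_zero.2 (Ne.symm hx₁)
  let e : {x : F | σ x = x} ≃ {x : F | x + σ x = 0} :=
    { toFun := fun c => ⟨c.1 * w, by simp [c.2.out, hw]⟩
      invFun := fun c => ⟨c.1 / w, by
        show σ (c.1 / w) = c.1 / w
        rw [map_div₀, hw, eq_neg_of_add_eq_zero_right c.2.out, neg_div_neg_eq]⟩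
      left_inv := fun c => Subtype.ext (mul_div_cancel_right₀ _ hw0)
      right_inv := fun c => Subtype.ext (div_mul_cancel₀ _ hw0) }
  have he := (Nat.card_congr e).symm
  refine ⟨?_, he, hrange⟩
  have h1 : Nat.card T.ker = Nat.card {x : F | x + σ x = 0} :=
    Nat.card_congr (Equiv.subtypeEquivRight fun x => Iff.rfl)
  have h2 : Nat.card T.range = Nat.card {x : F | σ x = x} := by
    rw [← hrange]
    exact Nat.card_congr (Equiv.subtypeEquivRight fun x => Iff.rfl)
  have h3 := T.ker.card_mul_index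
  rw [AddSubgroup.index_ker, h1, h2, he] at h3
  rw [pow_two]; exact h3.symm

end involution

/-- The exponent of the centre of the universal group. -/
def halfExp (a : ℕ) : ℕ := if a % 2 = 1 then 0 else a / 2

theorem add_halfExp (a : ℕ) : a + halfExp a = if a % 2 = 1 then a else 3 * a / 2 := by
  unfold halfExp
  split_ifs with h <;> omega

/-- The functionals `B 1 ·` of invariant alternating forms `B`. -/
def formSet (p : ℕ) (ζ : F) : Set (F →+ ZMod p) :=
  {g | g 1 = 0 ∧ ∀ k : ℕ, g (ζ ^ k) = - g (ζ⁻¹ ^ k)}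

/-- There are finitely many functionals on a finite group. -/
instance finite_addHom {A : Type*} [AddMonoid A] [Finite A] {B : Type*} [AddMonoid B] [Finite B] :
    Finite (A →+ B) :=
  Finite.of_injective (fun f => (f : A → B)) DFunLike.coe_injective

/-- Functionals on an elementary abelian group. -/
theorem card_dual {A : Type*} [AddCommGroup A] [Finite A] (hA : ∀ x : A, p • x = 0) :
    Nat.card (A →+ ZMod p) = Nat.card A := by
  let _ : Module (ZMod p) A := AddCommGroup.zmodModule (n := p) (G := A) hA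
  have : Module.Finite (ZMod p) A := Module.Finite.of_finite
  have e : Nat.card (A →+ ZMod p) = Nat.card (Module.Dual (ZMod p) A) :=
    Nat.card_congr (AddMonoidHom.toZModLinearMapEquiv p).toEquiv
  classical
  rw [e]
  exact Nat.card_congr (Module.Free.chooseBasis (ZMod p) A).toDualEquiv.toEquiv.symm

omit [CharP F p] in
theorem card_formSet (h : RootData F p q a ζ) [CharP F p] :
    Nat.card (formSet p ζ) ≤ p ^ halfExp a := by
  have hle : 1 ≤ p ^ halfExp a := Nat.one_le_pow _ _ hp.out.pos
  by_cases hall : ∀ g ∈ formSet p ζ, g = 0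
  · refine le_trans ?_ hle
    exact Finite.card_le_one_iff_subsingleton.2
      ⟨fun g g' => Subtype.ext ((hall _ g.2).trans (hall _ g'.2).symm)⟩
  push Not at hall
  obtain ⟨g₀, hg₀, hne₀⟩ := hall
  have hζ0 : ζ ≠ 0 := h.prim.ne_zero hq.out.ne_zero
  let c := ZMod.castHom (dvd_refl p) F
  let _ : Algebra (ZMod p) F := c.toAlgebra
  obtain ⟨σ, hσ⟩ : ∃ σ : F →+* F, σ ζ = ζ⁻¹ := by
    refine exists_ringHom h ζ⁻¹ fun P hP => ?_
    by_contra hne
    refine hne₀ (hom_ext_powers h fun k => ?_)
    rw [AddMonoidHom.zero_apply]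
    let y := Polynomial.aeval (ζ⁻¹ : F) P
    have hM : ∀ i : ℕ, g₀ (ζ ^ i * y) = 0 := by
      intro i
      show g₀ (ζ ^ i * Polynomial.aeval ζ⁻¹ P) = 0
      rw [Polynomial.aeval_eq_sum_range, Finset.mul_sum, map_sum]
      have hlin : ∀ (t : ZMod p) (x : F), g₀ (t • x) = t * g₀ x := fun t x => ZMod.map_smul g₀ t x
      have e : ∀ l : ℕ, g₀ (ζ ^ i * P.coeff l • ζ⁻¹ ^ l) = -g₀ (P.coeff l • (ζ⁻¹ ^ i * ζ ^ l)) := by
        intro l
        rw [mul_smul_comm, hlin, hlin, ← mul_neg]
        congr 1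
        rcases le_total l i with hli | hli
        · obtain ⟨m, rfl⟩ := Nat.exists_eq_add_of_le hli
          have e1 : ζ ^ (l + m) * ζ⁻¹ ^ l = ζ ^ m := by
            rw [add_comm, pow_add, mul_assoc, ← mul_pow, mul_inv_cancel₀ hζ0, one_pow, mul_one]
          have e2 : ζ⁻¹ ^ (l + m) * ζ ^ l = ζ⁻¹ ^ m := by
            rw [add_comm, pow_add, mul_assoc, ← mul_pow, inv_mul_cancel₀ hζ0, one_pow, mul_one]
          rw [e1, e2, hg₀.2]
        · obtain ⟨m, rfl⟩ := Nat.exists_eq_add_of_le hli
          have e1 : ζ ^ i * ζ⁻¹ ^ (i + m) = ζ⁻¹ ^ m := by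
            rw [pow_add, ← mul_assoc, ← mul_pow, mul_inv_cancel₀ hζ0, one_pow, one_mul]
          have e2 : ζ⁻¹ ^ i * ζ ^ (i + m) = ζ ^ m := by
            rw [pow_add, ← mul_assoc, ← mul_pow, inv_mul_cancel₀ hζ0, one_pow, one_mul]
          rw [e1, e2, hg₀.2, neg_neg]
      rw [Finset.sum_congr rfl (fun l _ => e l), Finset.sum_neg_distrib, neg_eq_zero, ← map_sum]
      have e3 : ∑ l ∈ Finset.range (P.natDegree + 1), P.coeff l • (ζ⁻¹ ^ i * ζ ^ l) =
          ζ⁻¹ ^ i * Polynomial.aeval ζ P := by
        rw [Polynomial.aeval_eq_sum_range, Finset.mul_sum]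
        exact Finset.sum_congr rfl fun l _ => (mul_smul_comm _ _ _).symm
      rw [e3, show Polynomial.aeval ζ P = 0 from hP, mul_zero, map_zero]
    have hall' : (g₀.comp (AddMonoidHom.mulRight y)) = 0 :=
      hom_ext_powers h (fun i => by simpa [mul_comm] using hM i)
    have := DFunLike.congr_fun hall' (ζ ^ k * y⁻¹)
    simpa [mul_assoc, inv_mul_cancel₀ (show y ≠ 0 from hne)] using this
  have hgσ : ∀ g ∈ formSet p ζ, ∀ y, g y = -g (σ y) := by
    intro g hg
    have := hom_ext_powers h (f := g) (g := -(g.comp σ.toAddMonoidHom)) fun k => by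
      simp [map_pow, hσ, hg.2 k]
    exact fun y => DFunLike.congr_fun this y
  have hσ2 : ∀ x, σ (σ x) = x := by
    have := hom_ext_powers h (f := σ.toAddMonoidHom.comp σ.toAddMonoidHom) (g := AddMonoidHom.id F)
      fun k => by simp [map_pow, hσ, map_inv₀]
    exact fun x => DFunLike.congr_fun this x
  by_cases hid : ∀ x, σ x = x
  · exfalso
    refine hne₀ (hom_ext_powers h fun k => ?_)
    have hz : ζ⁻¹ = ζ := (hσ.symm.trans (hid ζ))
    have h2 : ζ * ζ = 1 := by
      nth_rewrite 2 [← hz]
      exact mul_inv_cancel₀ hζ0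
    have hm : ζ = 1 ∨ ζ = -1 := mul_self_eq_one_iff.1 h2
    rw [AddMonoidHom.zero_apply]
    rcases hm with h1 | h1 <;> rcases Nat.even_or_odd k with hk | hk <;>
      simp [h1, hk.neg_one_pow, hg₀.1]
  push Not at hid
  obtain ⟨hcard, hker, hrange⟩ := card_eq_fixed_sq hσ2 hid
  let T : F →+ F := AddMonoidHom.id F + σ.toAddMonoidHom
  have hTr : Nat.card T.range = Nat.card {x : F | σ x = x} := by
    rw [← hrange]
    exact Nat.card_congr (Equiv.subtypeEquivRight fun x => Iff.rfl)
  obtain ⟨d, hd, hcd⟩ : ∃ d ≤ a, Nat.card T.range = p ^ d := by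
    have := AddSubgroup.card_addSubgroup_dvd_card T.range
    rw [h.card] at this
    exact (Nat.dvd_prime_pow hp.out).1 this
  rw [← hTr, hcd, h.card, ← pow_mul] at hcard
  have hae : a = d * 2 := Nat.pow_right_injective hp.out.two_le hcard
  have hhalf : halfExp a = d := by unfold halfExp; rw [if_neg (by omega)]; omega
  have hq' : Nat.card (F ⧸ T.range) = p ^ d := by
    have := T.range.card_mul_index
    rw [hcd, h.card, hae, pow_mul, pow_two] at this
    exact Nat.eq_of_mul_eq_mul_left (pow_pos hp.out.pos d) this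
  rw [hhalf, ← hq', ← card_dual (p := p) (A := F ⧸ T.range) (by
    intro x
    induction x using QuotientAddGroup.induction_on with
    | H z => rw [← QuotientAddGroup.mk_nsmul, nsmul_eq_mul, CharP.cast_eq_zero, zero_mul]; rfl)]
  refine Nat.card_le_card_of_injective
    (fun g : formSet p ζ => QuotientAddGroup.lift T.range g.1 ?_) ?_
  · rintro _ ⟨x, rfl⟩
    show g.1 (x + σ x) = 0
    rw [map_add, hgσ _ g.2 x, neg_add_cancel]
  · intro g g' hgg
    refine Subtype.ext (AddMonoidHom.ext fun x => ?_)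
    exact DFunLike.congr_fun hgg (x : F ⧸ T.range)

end CfsgLib.SchmidtUniversal
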