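import Cfsg.Prelude.Def_Transfer
import Cfsg.Agent.Eq.Def_Transfer
import Cfsg.Agent.SchmidtUniversal.Datum
import Cfsg.Agent.SolvableStructure.Schmidt
import Cfsg.Agent.PGroup.Frattini
import Cfsg.Agent.S0132

/-!
The datum belonging to a `p`-group with an automorphism of order `q` fixing every proper invariant
subgroup, and to a minimal non-`p`-nilpotent group.
-/

set_option autoImplicit false

open scoped commutatorElement Pointwise
open Polynomial

namespace CfsgLib.SchmidtUniversal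

variable {F : Type*} [Field F] [Finite F] {p q a : ℕ} [hp : Fact p.Prime] [hq : Fact q.Prime]
  [CharP F p] {ζ : F}

/-- A module over `ℤ/p` on which an element `s` of order `q` has no proper invariant subgroup and no
fixed point is a copy of `F`, some power of `s` corresponding to `ζ`. -/
theorem exists_addEquiv (h : RootData F p q a ζ) {V : Type*} [AddCommGroup V] [Finite V] [Nontrivial V]
    [Module (ZMod p) V] (s : Module.End (ZMod p) V) (hsq : s ^ q = 1) (hfix : ∀ v, s v = v → v = 0)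
    (hirr : ∀ M : AddSubgroup V, (∀ v ∈ M, s v ∈ M) → M = ⊥ ∨ M = ⊤) :
    ∃ (k : ℕ) (θ : F ≃+ V), ¬ q ∣ k ∧ ∀ y, (s ^ k) (θ y) = θ (ζ * y) := by
  haveI : NeZero q := ⟨hq.out.ne_zero⟩
  let _ : Algebra (ZMod p) F := (ZMod.castHom (dvd_refl p) F).toAlgebra
  haveI : Module.Finite (ZMod p) F := Module.Finite.of_finite
  let h_ : ℕ → (ZMod p)[X] := fun j => minpoly (ZMod p) (ζ ^ (j + 1))
  -- the product of the factors kills `s`
  have hdvd : (X ^ q - 1 : (ZMod p)[X]) ∣ (X - 1) * ∏ j ∈ Finset.range (q - 1), h_ j := by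
    rw [← Polynomial.map_dvd_map' (algebraMap (ZMod p) F)]
    simp only [Polynomial.map_sub, Polynomial.map_pow, Polynomial.map_X, Polynomial.map_one,
      Polynomial.map_mul, Polynomial.map_prod]
    rw [show (X ^ q - 1 : F[X]) = X ^ q - C ((1 : F) ^ q) by simp, one_pow,
      X_pow_sub_C_eq_prod (α := (1 : F)) h.prim hq.out.pos (one_pow q),
      show q = (q - 1) + 1 from (Nat.sub_add_cancel hq.out.one_le).symm, Finset.prod_range_succ']
    simp only [pow_zero, mul_one, map_one, Nat.add_sub_cancel]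
    rw [mul_comm]
    refine mul_dvd_mul_left _ (Finset.prod_dvd_prod_of_dvd _ _ fun j _ => ?_)
    rw [Polynomial.dvd_iff_isRoot, Polynomial.IsRoot.def, Polynomial.eval_map_algebraMap]
    exact minpoly.aeval _ _
  obtain ⟨j, hjq, v₁, hv₁, hv₁0⟩ : ∃ j < q - 1, ∃ v, v ≠ 0 ∧ (aeval s (h_ j)) v = 0 := by
    by_contra hcon
    push Not at hcon
    have hinj : ∀ n ≤ q - 1, ∀ v, (aeval s (∏ j ∈ Finset.range n, h_ j)) v = 0 → v = 0 := by
      intro n hn
      induction n with
      | zero => intro v hv; simpa using hv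
      | succ n ih =>
        intro v hv
        rw [Finset.prod_range_succ, map_mul, Module.End.mul_apply] at hv
        by_contra hv0
        exact hcon n (by omega) v hv0 (ih (by omega) _ hv)
    obtain ⟨v, hv⟩ := exists_ne (0 : V)
    obtain ⟨c, hc⟩ := hdvd
    have h0 : aeval s ((X - 1) * ∏ j ∈ Finset.range (q - 1), h_ j) = 0 := by
      rw [hc, map_mul, map_sub, map_pow, aeval_X, map_one, hsq, sub_self, zero_mul]
    rw [map_mul, map_sub, aeval_X, map_one] at h0
    have h1 := DFunLike.congr_fun h0 v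
    rw [Module.End.mul_apply, LinearMap.sub_apply, Module.End.one_apply, LinearMap.zero_apply,
      sub_eq_zero] at h1
    exact hv (hinj _ le_rfl v (hfix _ h1))
  have hann : aeval s (h_ j) = 0 := by
    let M : AddSubgroup V := (LinearMap.ker (aeval s (h_ j))).toAddSubgroup
    have hM : ∀ v ∈ M, s v ∈ M := by
      intro v hv
      show (aeval s (h_ j)) (s v) = 0
      have e : aeval s (h_ j) * s = s * aeval s (h_ j) := by
        nth_rewrite 2 [← aeval_X (R := ZMod p) s]
        nth_rewrite 3 [← aeval_X (R := ZMod p) s]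
        rw [← map_mul, ← map_mul, mul_comm]
      rw [← Module.End.mul_apply, e, Module.End.mul_apply, show (aeval s (h_ j)) v = 0 from hv, map_zero]
    rcases hirr M hM with h0 | h0
    · exact absurd (AddSubgroup.mem_bot.1 (h0 ▸ (show v₁ ∈ M from hv₁0))) hv₁
    · refine LinearMap.ext fun v => ?_
      exact (show v ∈ M from h0 ▸ AddSubgroup.mem_top v)
  have hcop : Nat.Coprime (j + 1) q := (hq.out.coprime_iff_not_dvd.2 fun hd => by
    have := Nat.le_of_dvd (Nat.succ_pos j) hd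
    omega).symm
  have h' : RootData F p q a (ζ ^ (j + 1)) := ⟨h.card, h.prim.pow_of_coprime _ hcop, h.order⟩
  obtain ⟨ρ, hρ⟩ := exists_ringHom h' s fun P hP => by
    obtain ⟨c, rfl⟩ : h_ j ∣ P := minpoly.dvd (ZMod p) _ hP
    rw [map_mul, hann, zero_mul]
  let k : ℕ := ((j + 1 : ℕ) : ZMod q)⁻¹.val
  have hjk : ((j + 1) * k : ℕ) % q = 1 := by
    have hne : ((j + 1 : ℕ) : ZMod q) ≠ 0 := fun e =>
      (hq.out.coprime_iff_not_dvd.1 hcop.symm) ((ZMod.natCast_eq_zero_iff _ _).1 e)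
    have e : (((j + 1) * k : ℕ) : ZMod q) = 1 := by
      rw [Nat.cast_mul, ZMod.natCast_zmod_val, mul_inv_cancel₀ hne]
    have := congrArg ZMod.val e
    rwa [ZMod.val_natCast, ZMod.val_one] at this
  have hρζ : ρ ζ = s ^ k := by
    conv_lhs => rw [← pow_one ζ, ← hjk, ← pow_eq_pow_mod _ h.prim.pow_eq_one, pow_mul]
    rw [map_pow, hρ]
  let θ₀ : F →+ V := AddMonoidHom.mk' (fun y => ρ y v₁) fun y z => by rw [map_add, LinearMap.add_apply]
  have hθeq : ∀ (c y : F), θ₀ (c * y) = ρ c (θ₀ y) := fun c y => by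
    show ρ (c * y) v₁ = ρ c (ρ y v₁)
    rw [map_mul, Module.End.mul_apply]
  have hinj : Function.Injective θ₀ := by
    refine (injective_iff_map_eq_zero _).2 fun y hy => ?_
    by_contra hne
    have h1 : θ₀ (y⁻¹ * y) = 0 := by rw [hθeq, hy, map_zero]
    rw [inv_mul_cancel₀ hne] at h1
    have h2 : (ρ 1) v₁ = 0 := h1
    rw [map_one, Module.End.one_apply] at h2
    exact hv₁ h2
  have hsurj : Function.Surjective θ₀ := by
    rcases hirr θ₀.range (by
      rintro _ ⟨y, rfl⟩
      exact ⟨ζ ^ (j + 1) * y, by rw [hθeq, hρ]⟩) with h0 | h0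
    · exfalso
      have h1 : θ₀ 1 = 0 := AddSubgroup.mem_bot.1 (h0 ▸ (show θ₀ 1 ∈ θ₀.range from ⟨1, rfl⟩))
      exact one_ne_zero ((injective_iff_map_eq_zero _).1 hinj 1 h1)
    · exact AddMonoidHom.range_eq_top.1 h0
  refine ⟨k, AddEquiv.ofBijective θ₀ ⟨hinj, hsurj⟩, ?_, fun y => ?_⟩
  · intro hd
    rw [Nat.mod_eq_zero_of_dvd] at hjk
    · exact zero_ne_one hjk
    · exact dvd_mul_of_dvd_right hd _
  · show (s ^ k) (θ₀ y) = θ₀ (ζ * y)
    rw [hθeq, hρζ]

/-- The datum of a `p`-group with an automorphism of order `q` fixing all proper invariant subgroups. -/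
theorem exists_datum_of_aut (h : RootData F p q a ζ) (hpq : p ≠ q) {P : Type*} [Group P] [Finite P]
    (hP : IsPGroup p P) (σ : MulAut P) (hσq : σ ^ q = 1) (hσ1 : σ ≠ 1)
    (hinv : ∀ R : Subgroup P, (∀ u ∈ R, σ u ∈ R) → R ≠ ⊤ → ∀ u ∈ R, σ u = u) :
    ∃ (D : Datum ζ p q P) (k : ℕ), ¬ q ∣ k ∧ D.τ = σ ^ k := by
  let Φ := frattini P
  have hΦch : Φ.Characteristic := inferInstance
  have hΦσ : ∀ (τ : MulAut P) u, u ∈ Φ → τ u ∈ Φ := fun τ u hu =>
    (Subgroup.characteristic_iff_map_le.1 hΦch τ) ⟨u, hu, rfl⟩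
  have hΦtop : Φ ≠ ⊤ := by
    intro e
    obtain ⟨u, hu⟩ : ∃ u, σ u ≠ u := by
      by_contra hcon; push Not at hcon; exact hσ1 (MulEquiv.ext hcon)
    haveI : Nontrivial (Subgroup P) := ⟨⟨⊥, ⊤, fun e' => hu (by
      rw [show u = 1 from Subgroup.mem_bot.1 (e'.symm ▸ Subgroup.mem_top u), map_one])⟩⟩
    obtain ⟨K, hK⟩ := IsCoatomic.exists_coatom (α := Subgroup P)
    exact hK.1 (eq_top_iff.2 (e ▸ frattini_le_coatom hK))
  have hΦfix : ∀ u ∈ Φ, σ u = u := hinv Φ (hΦσ σ) hΦtop
  have hpow : ∀ (m : ℕ) u z, z ∈ Φ → σ u = u * z → (σ ^ m) u = u * z ^ m := by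
    intro m u z hz e
    induction m with
    | zero => simp
    | succ m ih =>
      rw [pow_succ', MulAut.mul_apply, ih, map_mul, e, map_pow, hΦfix z hz, mul_assoc, ← pow_succ']
  have htriv : (∀ u, u⁻¹ * σ u ∈ Φ) → False := by
    intro hall
    refine hσ1 (MulEquiv.ext fun u => ?_)
    have e := hpow q u _ (hall u) (by group)
    rw [hσq, MulAut.one_apply, left_eq_mul] at e
    obtain ⟨i, hi⟩ := hP (u⁻¹ * σ u)
    have h1 : u⁻¹ * σ u = 1 := orderOf_eq_one_iff.1 (Nat.eq_one_of_dvd_coprimes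
      (Nat.Coprime.pow_right i ((Nat.coprime_primes hq.out hp.out).2 (Ne.symm hpq)))
      (orderOf_dvd_of_pow_eq_one e) (orderOf_dvd_of_pow_eq_one hi))
    exact (inv_mul_eq_one.1 h1).symm
  -- the quotient as a module
  let Q := P ⧸ Φ
  have hQc : ∀ x y : Q, x * y = y * x := by
    intro x y
    induction x using QuotientGroup.induction_on with
    | H u => induction y using QuotientGroup.induction_on with
      | H v =>
        rw [← QuotientGroup.mk_mul, ← QuotientGroup.mk_mul, QuotientGroup.eq]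
        have := CfsgLib.PGroup.commutator_le_frattini hP
          (Subgroup.commutator_mem_commutator (Subgroup.mem_top v⁻¹) (Subgroup.mem_top u⁻¹))
        rwa [commutatorElement_def, inv_inv, inv_inv, show v⁻¹ * u⁻¹ * v * u = (u * v)⁻¹ * (v * u) by group] at this
  let _ : CommGroup Q := { (inferInstance : Group Q) with mul_comm := hQc }
  have hVp : ∀ v : Additive Q, p • v = 0 := by
    intro v
    obtain ⟨u, hu⟩ := QuotientGroup.mk'_surjective Φ v.toMul
    rw [← ofMul_toMul v, ← ofMul_pow, ← hu, QuotientGroup.mk'_apply, ← QuotientGroup.mk_pow,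
      (QuotientGroup.eq_one_iff _).2 (CfsgLib.PGroup.pow_prime_mem_frattini hP u), ofMul_one]
  let _ : Module (ZMod p) (Additive Q) := AddCommGroup.zmodModule (n := p) (G := Additive Q) hVp
  let σQ : Q →* Q := QuotientGroup.map Φ Φ σ.toMonoidHom (fun u hu => hΦσ σ u hu)
  let s : Module.End (ZMod p) (Additive Q) := (MonoidHom.toAdditive σQ).toZModLinearMap p
  have hs : ∀ u : P, s (Additive.ofMul (u : Q)) = Additive.ofMul ((σ u : P) : Q) := fun u => rfl
  have hspow : ∀ (m : ℕ) (u : P), (s ^ m) (Additive.ofMul (u : Q)) = Additive.ofMul (((σ ^ m) u : P) : Q) := by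
    intro m u
    induction m with
    | zero => rfl
    | succ m ih => rw [pow_succ', Module.End.mul_apply, ih, hs, pow_succ', MulAut.mul_apply]
  have hrep : ∀ v : Additive Q, ∃ u : P, v = Additive.ofMul (u : Q) := fun v => by
    obtain ⟨u, hu⟩ := QuotientGroup.mk'_surjective Φ v.toMul
    exact ⟨u, (congrArg Additive.ofMul hu).symm⟩
  have hsq : s ^ q = 1 := by
    refine LinearMap.ext fun v => ?_
    obtain ⟨u, rfl⟩ := hrep v
    rw [hspow, hσq]; rfl
  haveI : Nontrivial (Additive Q) := by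
    rw [← Finite.one_lt_card_iff_nontrivial, Nat.card_congr Additive.toMul]
    show 1 < Φ.index
    exact Φ.one_lt_index_of_ne_top hΦtop
  -- invariant proper subgroups between are fixed
  have hsub : ∀ M : AddSubgroup (Additive Q), (∀ v ∈ M, s v ∈ M) → M ≠ ⊤ →
      ∀ u : P, Additive.ofMul (u : Q) ∈ M → σ u = u := by
    intro M hM hne u hu
    let R : Subgroup P := (AddSubgroup.toSubgroup' M).comap (QuotientGroup.mk' Φ)
    refine hinv R (fun w hw => hM _ hw) ?_ u hu
    intro e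
    refine hne (eq_top_iff.2 fun v _ => ?_)
    obtain ⟨w, rfl⟩ := hrep v
    exact (show w ∈ R from e ▸ Subgroup.mem_top w)
  -- no fixed points
  let δ : Additive Q →+ Additive Q := s.toAddMonoidHom - AddMonoidHom.id _
  have hδ : ∀ v, δ v = s v - v := fun v => rfl
  have hδtop : δ.range = ⊤ := by
    by_contra hne
    refine htriv fun u => ?_
    have hfixz := hsub δ.range (by
      rintro _ ⟨v, rfl⟩
      exact ⟨s v, by rw [hδ, hδ, map_sub]⟩) hne (u⁻¹ * σ u) ⟨Additive.ofMul (u : Q), by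
        rw [hδ, hs, sub_eq_add_neg, add_comm]; rfl⟩
    have e : ∀ m : ℕ, (σ ^ m) u = u * (u⁻¹ * σ u) ^ m := by
      intro m
      induction m with
      | zero => simp
      | succ m ih =>
        rw [pow_succ', MulAut.mul_apply, ih, map_mul, map_pow, hfixz, pow_succ' (u⁻¹ * σ u), ← mul_assoc u, mul_inv_cancel_left]
    have e' := e q
    rw [hσq, MulAut.one_apply, left_eq_mul] at e'
    obtain ⟨i, hi⟩ := hP (u⁻¹ * σ u)
    rw [show u⁻¹ * σ u = 1 from orderOf_eq_one_iff.1 (Nat.eq_one_of_dvd_coprimes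
      (Nat.Coprime.pow_right i ((Nat.coprime_primes hq.out hp.out).2 (Ne.symm hpq)))
      (orderOf_dvd_of_pow_eq_one e') (orderOf_dvd_of_pow_eq_one hi))]
    exact one_mem _
  have hδinj : Function.Injective δ := Finite.injective_iff_surjective.2 (AddMonoidHom.range_eq_top.1 hδtop)
  have hfixV : ∀ v, s v = v → v = 0 := fun v hv => hδinj (by rw [map_zero, hδ, hv, sub_self])
  have hirr : ∀ M : AddSubgroup (Additive Q), (∀ v ∈ M, s v ∈ M) → M = ⊥ ∨ M = ⊤ := by
    intro M hM
    by_cases hne : M = ⊤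
    · exact Or.inr hne
    refine Or.inl ((AddSubgroup.eq_bot_iff_forall _).2 fun v hv => ?_)
    obtain ⟨u, rfl⟩ := hrep v
    exact hfixV _ (by rw [hs, hsub M hM hne u hv])
  obtain ⟨k, θ, hk, hθ⟩ := exists_addEquiv h s hsq hfixV hirr
  have hcop : Nat.Coprime k q := (hq.out.coprime_iff_not_dvd.2 hk).symm
  -- inverse power
  obtain ⟨l, hl⟩ : ∃ l : ℕ, (σ ^ k) ^ l = σ := by
    have ho : orderOf σ = q := orderOf_eq_prime hσq hσ1
    exact exists_pow_eq_self_of_coprime (ho ▸ hcop)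
  let g : P →* Multiplicative F :=
    MonoidHom.mk' (fun u => Multiplicative.ofAdd (θ.symm (Additive.ofMul (u : Q)))) fun u v => by
      rw [QuotientGroup.mk_mul, ofMul_mul, map_add, ofAdd_add]
  have hker : ∀ u, g u = 1 ↔ u ∈ Φ := by
    intro u
    rw [show g u = Multiplicative.ofAdd (θ.symm (Additive.ofMul (u : Q))) from rfl, ofAdd_eq_one,
      map_eq_zero_iff θ.symm θ.symm.injective, ← ofMul_one, Additive.ofMul.injective.eq_iff, QuotientGroup.eq_one_iff]
  refine ⟨{ τ := σ ^ k, pow_q := ?_, f := g, surj := ?_, equiv := ?_, fix := ?_, central := ?_,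
            isP := hP, minimal := ?_ }, k, hk, rfl⟩
  · rw [← pow_mul, mul_comm, pow_mul, hσq, one_pow]
  · intro y
    obtain ⟨u, hu⟩ := hrep (θ y.toAdd)
    refine ⟨u, ?_⟩
    show Multiplicative.ofAdd (θ.symm (Additive.ofMul (u : Q))) = y
    rw [← hu, θ.symm_apply_apply, ofAdd_toAdd]
  · intro u
    show θ.symm (Additive.ofMul (((σ ^ k) u : P) : Q)) = ζ * θ.symm (Additive.ofMul (u : Q))
    rw [← hspow, AddEquiv.symm_apply_eq, ← hθ, θ.apply_symm_apply]
  · intro u hu
    have := hΦfix u ((hker u).1 hu)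
    clear hl hcop hk hθ
    induction k with
    | zero => rfl
    | succ k ih => rw [pow_succ', MulAut.mul_apply, ih, this]
  · intro z hz
    have hzΦ := (hker z).1 hz
    let C : Subgroup P := Subgroup.centralizer (Φ : Set P)
    have hCinv : ∀ u ∈ C, σ u ∈ C := by
      intro u hu
      refine Subgroup.mem_centralizer_iff.2 fun w hw => ?_
      have := congrArg σ (Subgroup.mem_centralizer_iff.1 hu w hw)
      rwa [map_mul, map_mul, hΦfix w hw] at this
    have hδC : ∀ u, u⁻¹ * σ u ∈ C := by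
      intro u
      refine Subgroup.mem_centralizer_iff.2 fun w hw => ?_
      have hn : u * w * u⁻¹ ∈ Φ := (inferInstance : Φ.Normal).conj_mem w hw u
      have h1 := hΦfix _ hn
      rw [map_mul, map_mul, map_inv, hΦfix w hw] at h1
      calc w * (u⁻¹ * σ u) = u⁻¹ * (u * w * u⁻¹) * σ u := by group
        _ = u⁻¹ * (σ u * w * (σ u)⁻¹) * σ u := by rw [h1]
        _ = u⁻¹ * σ u * w := by group
    have hCtop : C = ⊤ := by
      by_contra hne
      refine htriv fun u => ?_
      have h1 := hinv C hCinv hne _ (hδC u)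
      have h2 := hfixV (Additive.ofMul ((u⁻¹ * σ u : P) : Q)) (by rw [hs, h1])
      exact (QuotientGroup.eq_one_iff _).1 (Additive.ofMul.injective h2)
    refine Subgroup.mem_center_iff.2 fun w => ?_
    exact (Subgroup.mem_centralizer_iff.1 (show w ∈ C from hCtop ▸ Subgroup.mem_top w) z hzΦ).symm
  · intro R hR hRg
    refine frattini_nongenerating (eq_top_iff.2 fun u _ => ?_)
    obtain ⟨w, hw, hwu⟩ := (hRg ▸ Subgroup.mem_top (g u) : g u ∈ R.map g)
    rw [show u = w * (w⁻¹ * u) by group]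
    exact mul_mem (Subgroup.mem_sup_left hw)
      (Subgroup.mem_sup_right ((hker _).1 (by rw [map_mul, map_inv, hwu, inv_mul_cancel])))

/-- The datum of a minimal non-`p`-nilpotent group of order `p ^ t * q ^ r`. -/
theorem exists_datum_of_group (h : RootData F p q a ζ) (hpq : p ≠ q) {r : ℕ} (hr : 1 ≤ r)
    {X : Type*} [Group X] [Finite X] (h1 : ¬ Cfsg.HasNormalPComplement p X)
    (h2 : ∀ K : Subgroup X, K ≠ ⊤ → Cfsg.HasNormalPComplement p K) {t : ℕ}
    (hX : Nat.card X = p ^ t * q ^ r) :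
    ∃ (P : Sylow p X) (D : Datum ζ p q (P : Subgroup X)) (x : X), orderOf x = q ^ r ∧
      (P : Subgroup X) ⊔ Subgroup.zpowers x = ⊤ ∧
      ∀ u : (P : Subgroup X), ((D.τ u : (P : Subgroup X)) : X) = x * u * x⁻¹ := by
  obtain ⟨hnil, -, hnorm⟩ := Cfsg.Agent.S0132.result h1 h2
  obtain ⟨P⟩ : Nonempty (Sylow p X) := inferInstance
  have hPn := hnorm P
  obtain ⟨Qs⟩ : Nonempty (Sylow q X) := inferInstance
  have hpqc : ∀ i j : ℕ, Nat.Coprime (p ^ i) (q ^ j) := fun i j =>
    Nat.Coprime.pow i j ((Nat.coprime_primes hp.out hq.out).2 hpq)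
  have hcP : Nat.card (P : Subgroup X) = p ^ t := by
    rw [P.card_eq_multiplicity, hX, Nat.factorization_mul (pow_ne_zero _ hp.out.ne_zero)
      (pow_ne_zero _ hq.out.ne_zero), Finsupp.add_apply, hp.out.factorization_pow, hq.out.factorization_pow,
      Finsupp.single_eq_same, Finsupp.single_eq_of_ne hpq, add_zero]
  have hcQ : Nat.card (Qs : Subgroup X) = q ^ r := by
    rw [Qs.card_eq_multiplicity, hX, Nat.factorization_mul (pow_ne_zero _ hp.out.ne_zero)
      (pow_ne_zero _ hq.out.ne_zero), Finsupp.add_apply, hp.out.factorization_pow, hq.out.factorization_pow,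
      Finsupp.single_eq_same, Finsupp.single_eq_of_ne (Ne.symm hpq), zero_add]
  have hcomm : ∀ (H : Subgroup X), H ≠ ⊤ → ∀ y w : X, y ∈ H → w ∈ H →
      (∃ i, orderOf y = q ^ i) → (∃ i, orderOf w = p ^ i) → y * w = w * y := by
    rintro H hH y w hy hw ⟨i, hi⟩ ⟨j, hj⟩
    haveI := hnil H hH
    have := CfsgLib.Schmidt.commute_of_nilpotent' (G := H) (x := ⟨y, hy⟩) (y := ⟨w, hw⟩) hq.out
      (by rw [Subgroup.orderOf_mk, hi]) (by
        rw [Subgroup.orderOf_mk, hj]; exact Nat.Coprime.pow_left _ ((Nat.coprime_primes hp.out hq.out).2 hpq))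
    exact congrArg Subtype.val this
  have hordQ : ∀ y ∈ (Qs : Subgroup X), ∃ i, orderOf y = q ^ i := fun y hy => by
    obtain ⟨i, hi⟩ := IsPGroup.iff_orderOf.1 Qs.2 ⟨y, hy⟩
    exact ⟨i, by rw [← hi, Subgroup.orderOf_mk]⟩
  have hordP : ∀ w ∈ (P : Subgroup X), ∃ i, orderOf w = p ^ i := fun w hw => by
    obtain ⟨i, hi⟩ := IsPGroup.iff_orderOf.1 P.2 ⟨w, hw⟩
    exact ⟨i, by rw [← hi, Subgroup.orderOf_mk]⟩
  -- some element of `Qs` moves `P`
  obtain ⟨y₀, hy₀, w₀, hw₀, hne₀⟩ : ∃ y ∈ (Qs : Subgroup X), ∃ w ∈ (P : Subgroup X), y * w ≠ w * y := by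
    by_contra hcon
    push Not at hcon
    refine h1 (hasNormalPComplement_of hcon ?_ ?_)
    · rw [hcP, hcQ]; exact hpqc t r
    · rw [hcP, hcQ, hX]
  -- such an element generates a complement
  have hgen : (P : Subgroup X) ⊔ Subgroup.zpowers y₀ = ⊤ := by
    by_contra hne
    exact hne₀ (hcomm _ hne y₀ w₀ (Subgroup.mem_sup_right (Subgroup.mem_zpowers _))
      (Subgroup.mem_sup_left hw₀) (hordQ _ hy₀) (hordP _ hw₀))
  have hcard_sup : ∀ y ∈ (Qs : Subgroup X),
      Nat.card ↥((P : Subgroup X) ⊔ Subgroup.zpowers y) = p ^ t * orderOf y := by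
    intro y hy
    have hd : (P : Subgroup X) ⊓ Subgroup.zpowers y = ⊥ := by
      refine eq_bot_iff.2 (le_trans (inf_le_inf_left _ (Subgroup.zpowers_le.2 hy)) ?_)
      exact (IsPGroup.disjoint_of_ne p q hpq _ _ P.2 Qs.2).le_bot
    rw [card_sup_normal _ _ hd, hcP, Nat.card_zpowers]
  have hy₀o : orderOf y₀ = q ^ r := by
    have := hcard_sup y₀ hy₀
    rw [hgen, Subgroup.card_top, hX] at this
    exact (Nat.eq_of_mul_eq_mul_left (pow_pos hp.out.pos t) this).symm
  let σ : MulAut (P : Subgroup X) := MulAut.conjNormal y₀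
  have hσ : ∀ (m : ℕ) (u : (P : Subgroup X)), (((σ ^ m) u : (P : Subgroup X)) : X) = y₀ ^ m * u * (y₀ ^ m)⁻¹ := by
    intro m u
    rw [← map_pow]
    exact MulAut.conjNormal_apply _ u
  have hσq : σ ^ q = 1 := by
    refine MulEquiv.ext fun u => Subtype.ext ?_
    rw [hσ, MulAut.one_apply]
    have hne : (P : Subgroup X) ⊔ Subgroup.zpowers (y₀ ^ q) ≠ ⊤ := by
      intro e
      have := hcard_sup (y₀ ^ q) (pow_mem hy₀ q)
      rw [e, Subgroup.card_top, hX] at this
      have e2 := Nat.eq_of_mul_eq_mul_left (pow_pos hp.out.pos t) this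
      rw [orderOf_pow' _ hq.out.ne_zero, hy₀o, Nat.gcd_eq_right (dvd_pow_self q (by omega))] at e2
      exact absurd e2.symm (Nat.div_lt_self (pow_pos hq.out.pos r) hq.out.one_lt).ne
    rw [hcomm _ hne (y₀ ^ q) u (Subgroup.mem_sup_right (Subgroup.mem_zpowers _))
      (Subgroup.mem_sup_left u.2) (hordQ _ (pow_mem hy₀ q)) (hordP _ u.2), mul_inv_cancel_right]
  have hσ1 : σ ≠ 1 := by
    intro e
    have := hσ 1 ⟨w₀, hw₀⟩
    rw [pow_one, e, MulAut.one_apply, pow_one] at this
    refine hne₀ ?_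
    change w₀ = y₀ * w₀ * y₀⁻¹ at this
    exact (mul_inv_eq_iff_eq_mul.1 this.symm)
  have hinv : ∀ R : Subgroup (P : Subgroup X), (∀ u ∈ R, σ u ∈ R) → R ≠ ⊤ → ∀ u ∈ R, σ u = u := by
    intro R hR hne u hu
    let R' := R.map (P : Subgroup X).subtype
    have hne' : R' ⊔ Subgroup.zpowers y₀ ≠ ⊤ := by
      intro e
      refine hne (eq_top_iff.2 fun w _ => ?_)
      have hR'n : Subgroup.zpowers y₀ ≤ Subgroup.normalizer (R' : Set X) := by
        rw [Subgroup.zpowers_le]
        refine Subgroup.mem_normalizer_fintype ?_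
        rintro _ ⟨v, hv, rfl⟩
        exact ⟨σ v, hR v hv, MulAut.conjNormal_apply _ v⟩
      obtain ⟨a', ha', b', hb', hab⟩ : (w : X) ∈ ((R' : Set X) * (Subgroup.zpowers y₀ : Set X)) := by
        rw [← Subgroup.coe_mul_of_right_le_normalizer_left _ _ hR'n, e]; exact Subgroup.mem_top _
      obtain ⟨v, hv, rfl⟩ := ha'
      dsimp only at hab
      have hb1 : b' = 1 := by
        have hbP : b' ∈ (P : Subgroup X) := by
          rw [show b' = ((P : Subgroup X).subtype v)⁻¹ * (w : X) from eq_inv_mul_of_mul_eq hab]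
          exact mul_mem (inv_mem v.2) w.2
        exact (Subgroup.eq_bot_iff_forall _).1 (IsPGroup.disjoint_of_ne p q hpq _ _ P.2 Qs.2).eq_bot b'
          ⟨hbP, Subgroup.zpowers_le.2 hy₀ hb'⟩
      rw [show w = v from Subtype.ext (by rw [← hab, hb1, mul_one]; rfl)]
      exact hv
    refine Subtype.ext ?_
    show ((MulAut.conjNormal y₀ u : (P : Subgroup X)) : X) = u
    rw [MulAut.conjNormal_apply, hcomm _ hne' y₀ u (Subgroup.mem_sup_right (Subgroup.mem_zpowers _))
      (Subgroup.mem_sup_left ⟨u, hu, rfl⟩) (hordQ _ hy₀) (hordP _ u.2), mul_inv_cancel_right]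
  obtain ⟨D, k, hk, hD⟩ := exists_datum_of_aut h hpq P.2 σ hσq hσ1 hinv
  have hkc : Nat.Coprime k (q ^ r) := Nat.Coprime.pow_right r (hq.out.coprime_iff_not_dvd.2 hk).symm
  refine ⟨P, D, y₀ ^ k, ?_, ?_, fun u => by rw [hD]; exact hσ k u⟩
  · rw [(show (orderOf y₀).Coprime k by rw [hy₀o]; exact hkc.symm).orderOf_pow, hy₀o]
  · have e : Subgroup.zpowers (y₀ ^ k) = Subgroup.zpowers y₀ := by
      refine le_antisymm (Subgroup.zpowers_le.2 (Subgroup.pow_mem _ (Subgroup.mem_zpowers _) k)) ?_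
      obtain ⟨m, hm⟩ := exists_pow_eq_self_of_coprime (show k.Coprime (orderOf y₀) by rw [hy₀o]; exact hkc)
      rw [Subgroup.zpowers_le]
      exact ⟨m, by simpa using hm⟩
    rw [e, hgen]
where
  card_sup_normal {X : Type _} [Group X] (N K : Subgroup X) [N.Normal] (hd : N ⊓ K = ⊥) :
      Nat.card ↥(N ⊔ K) = Nat.card N * Nat.card K := by
    rw [← Nat.card_prod]
    refine (Nat.card_congr (Equiv.ofBijective
      (fun x : N × K => (⟨x.1 * x.2, mul_mem (Subgroup.mem_sup_left x.1.2) (Subgroup.mem_sup_right x.2.2)⟩ : ↥(N ⊔ K)))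
      ⟨fun x y e => Subgroup.mul_injective_of_disjoint (disjoint_iff.2 hd) (congrArg Subtype.val e), ?_⟩)).symm
    rintro ⟨z, hz⟩
    obtain ⟨n, hn, k, hk, rfl⟩ := Subgroup.mem_sup_of_normal_left.1 hz
    exact ⟨(⟨n, hn⟩, ⟨k, hk⟩), rfl⟩
  hasNormalPComplement_of {X : Type _} [Group X] [Finite X] {p : ℕ} [Fact p.Prime] {P : Sylow p X}
      {H : Subgroup X} [(P : Subgroup X).Normal] (hc : ∀ y ∈ H, ∀ w ∈ (P : Subgroup X), y * w = w * y)
      (hco : Nat.Coprime (Nat.card (P : Subgroup X)) (Nat.card H))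
      (hcard : Nat.card X = Nat.card (P : Subgroup X) * Nat.card H) :
      Cfsg.HasNormalPComplement p X := by
    have hc' : H.IsComplement' (P : Subgroup X) :=
      (Subgroup.isComplement'_of_coprime hcard.symm hco).symm
    refine ⟨P, H, ?_, hc'⟩
    rw [← Subgroup.normalizer_eq_top_iff, eq_top_iff, ← hc'.sup_eq_top]
    refine sup_le Subgroup.le_normalizer ?_
    intro w hw
    refine Subgroup.centralizer_le_normalizer _ (Subgroup.mem_centralizer_iff.2 fun y hy => ?_)
    exact hc y hy w hw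

end CfsgLib.SchmidtUniversal
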